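import Cfsg.Agent.H868.QS.OutBase
import Cfsg.Agent.H868.Ore.CoOne
import Cfsg.Agent.H8.Ore.CoOneB

/-!
# `2.Co₁`: the elements of `C(w)` outside `Z × L`, orders 5 and 7 (helper868, S2491 / S2492)

`y ∈ L` of order 5 or 7: `3 |C(w) ∩ C(y)| ≤ |C(y)|` (`third`, since `r` moves `w`), and `2 |C(g)| ≤ |C(w) ∩ C(y)|`.
-/

set_option autoImplicit false

open Subgroup

namespace Cfsg.Agent.H868.QS.Outer

open Cfsg Cfsg.Agent.KFacts.Co1D4
open Cfsg.Agent.LThreeMB (fr XX Zx)
open Cfsg.Agent.H630.Ore.Co1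
open Cfsg.Spor (Co1)

/-- `r` moves `w` -/
theorem third {y : Co1} (hL : y ∈ GTwo.L) :
    3 * Nat.card (centralizer ({TwoB.w} : Set Co1) ⊓ centralizer ({y} : Set Co1) : Subgroup Co1) ≤
      Nat.card (centralizer ({y} : Set Co1)) := by
  have := LThree.fin_co1
  set K : Subgroup Co1 := centralizer ({TwoB.w} : Set Co1) ⊓ centralizer ({y} : Set Co1) with hK
  set C : Subgroup Co1 := centralizer ({y} : Set Co1) with hC
  have hle : K ≤ C := inf_le_right
  have hrC : TwoB.r ∈ C := mem_centralizer_singleton_iff.2 (Main.setup.Lr y hL).symm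
  have h1 := relIndex_mul_card hle
  have hr : TwoB.r * TwoB.w = TwoB.v * TwoB.r := by
    have h := TwoB.rw_
    calc TwoB.r * TwoB.w = (TwoB.r * TwoB.w * TwoB.r⁻¹) * TwoB.r := by group
      _ = TwoB.v * TwoB.r := by rw [h]
  have hr2 : TwoB.r * TwoB.v = TwoB.w * TwoB.v * TwoB.r := by
    have h := TwoB.rv
    calc TwoB.r * TwoB.v = (TwoB.r * TwoB.v * TwoB.r⁻¹) * TwoB.r := by group
      _ = TwoB.w * TwoB.v * TwoB.r := by rw [h]
  have h2 : K.relIndex C ≠ 1 := by
    intro h3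
    have h4 := mem_centralizer_singleton_iff.1 ((relIndex_eq_one.1 h3) hrC).1
    rw [hr] at h4
    exact TwoB.vw (mul_right_cancel h4)
  have h3 : K.relIndex C ≠ 2 := by
    intro h4
    have h5 := mul_self_mem_of_index_two (H := K.subgroupOf C) h4 ⟨TwoB.r, hrC⟩
    have h6 : TwoB.r * TwoB.r ∈ K := h5
    have h7 := mem_centralizer_singleton_iff.1 h6.1
    have h8 : TwoB.r * TwoB.r * TwoB.w = TwoB.w * TwoB.v * (TwoB.r * TwoB.r) := by
      calc TwoB.r * TwoB.r * TwoB.w = TwoB.r * (TwoB.r * TwoB.w) := by group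
        _ = TwoB.r * (TwoB.v * TwoB.r) := by rw [hr]
        _ = (TwoB.r * TwoB.v) * TwoB.r := by group
        _ = TwoB.w * TwoB.v * TwoB.r * TwoB.r := by rw [hr2]
        _ = TwoB.w * TwoB.v * (TwoB.r * TwoB.r) := by group
    rw [h8] at h7
    have h9 := mul_right_cancel h7
    exact TwoB.v_ne (mul_eq_left.1 h9)
  have h4 : K.relIndex C ≠ 0 := by
    intro h5
    rw [h5, zero_mul] at h1
    exact Nat.card_pos.ne h1
  rw [← h1]
  exact Nat.mul_le_mul_right _ (by omega)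

/-- **order seven** -/
theorem out7 (g y : Co1) (hw : TwoB.w ∈ zpowers g) (hg : g ∉ Main.setup.ZL) (hy : y ∈ zpowers g)
    (h7 : orderOf y = 7) : Bd 11007 g := by
  have ho : Odd (orderOf y) := by rw [h7]; decide
  have hyw : y * TwoB.w = TwoB.w * y := comm_of_mem hw (comm_of_mem hy rfl).symm
  have h1 := half hw hg hy ho
  have h2 := third (odd_mem_L ho hyw)
  have h3 := H8.Ore.CoOneB.bound_seven h7
  show Nat.card _ ≤ 11007
  omega

/-- **order five** -/
theorem out5 (g y : Co1) (hw : TwoB.w ∈ zpowers g) (hg : g ∉ Main.setup.ZL) (hy : y ∈ zpowers g)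
    (h5 : orderOf y = 5) : Bd 11007 g := by
  have ho : Odd (orderOf y) := by rw [h5]; decide
  have hyw : y * TwoB.w = TwoB.w * y := comm_of_mem hw (comm_of_mem hy rfl).symm
  have h1 := half hw hg hy ho
  show Nat.card _ ≤ 11007
  rcases CoFive.Ranks.ranks y h5 with hf | hf | hf
  · obtain ⟨t, u, Q, v, ρ, D⟩ := KFacts.J2.Facts.exists_dat_of (MFive.JTwo.isoJ2 h5 hf)
    have h2 := inf_le w_order hyw.symm ho (n := 1920) (fun x hx => by
      rcases H8.Ore.JBound.two D.F hx with h | h <;> rw [h]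
      norm_num)
    rw [h5] at h2
    omega
  · exact absurd hyw (fun h => Cfsg.Agent.H868.Ore.Co1.no_w_five h5 hf h)
  · have h2 := third (odd_mem_L ho hyw)
    have h3 := H8.Ore.CoOneB.bound_5B h5 hf
    omega

end Cfsg.Agent.H868.QS.Outer
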