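import Cfsg.Agent.H868.Ore.CoOne

/-!
# `Co1`: elements whose order is divisible by nine (helper868, piece E8d of S2491 / S2492)

`nine_pgroup` : an involution not conjugate to `w` commutes with `g`, or `C(g)` is a 3-group.
-/

set_option autoImplicit false

namespace Cfsg.Agent.H868.QS

open Cfsg Subgroup Module
open Cfsg.Agent.H868.Ore.Co1
open Cfsg.Agent.SigZeroCo2.Rank (fix mem_fix)
open Cfsg.Agent.SigZeroCo2.Lin (rep Sp)
open Cfsg.Agent.SporadicA.Co0Mono Cfsg.Agent.SporadicA.Co1Simple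
open Cfsg.Agent.CoOneType.ClosingFacts (mk mk_mul mk_inv exists_mk mk_eq_one mk_eq)
open Cfsg.Agent.LThreeMB (fr XX Zx)
open Cfsg.Agent.H55.CoOneBd (card_co1 card_cent_dvd exists_lift finite_co1)
open Cfsg.Agent.KFacts.Co1D4
open Cfsg.Spor (Co1)

/-- **elements whose order is divisible by nine** -/
theorem nine_pgroup {g : Co1} (h9 : 9 ∣ orderOf g) :
    (∃ t : Co1, orderOf t = 2 ∧ t * g = g * t ∧ ¬ IsConj TwoB.w t) ∨
      IsPGroup 3 (centralizer ({g} : Set Co1)) := by
  have := finite_co1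
  obtain ⟨m, hm⟩ := h9
  have hm0 : m ≠ 0 := by
    rintro rfl
    have := orderOf_pos g
    omega
  have hx : orderOf (g ^ m) = 9 := by
    rw [orderOf_pow_of_dvd hm0 ⟨9, by rw [hm, mul_comm]⟩, hm]
    exact Nat.mul_div_cancel _ (Nat.pos_of_ne_zero hm0)
  have hxg : g ^ m ∈ zpowers g := ⟨m, by simp⟩
  rcases step hxg (fun x' hxx' hc => no_w_nine (x := x') (by
      obtain ⟨c, hc⟩ := isConj_iff.1 hxx'
      rw [← hx, ← hc]
      exact MulEquiv.orderOf_eq (MulAut.conj c) _) hc) with h | h2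
  · exact Or.inl h
  right
  have h0 : Nat.card (centralizer ({g} : Set Co1)) ≠ 0 := Nat.card_pos.ne'
  -- primes
  have hprime : ∀ p : ℕ, p.Prime → (∀ y : Co1, orderOf y = p → g ^ m * y = y * g ^ m → False) →
      ¬ p ∣ Nat.card (centralizer ({g} : Set Co1)) := by
    intro p hp hno hd
    have : Fact p.Prime := ⟨hp⟩
    obtain ⟨y, hy⟩ := exists_prime_orderOf_dvd_card' (G := centralizer ({g} : Set Co1)) p hd
    have hyg := mem_centralizer_singleton_iff.1 y.2
    exact hno y ((orderOf_coe y).trans hy) ((show Commute g (y : Co1) from hyg.symm).pow_left m)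
  have hp5 := hprime 5 (by norm_num) fun y hy hc => no_five_nine hx hy hc
  have hp7 := hprime 7 (by norm_num) fun y hy hc => H713.B0R.CoOne.co1_no hy hx hc.symm
  have hp13 := hprime 13 (by norm_num) fun y hy hc => by
    obtain ⟨a, rfl, ha5, ha⟩ := exists_lift (by norm_num) (by norm_num) hy
    obtain ⟨b, hb1, hb⟩ := exists_lift' (by decide : Odd 9) hx
    rw [← hb1] at hc
    exact H518.Co13.no_nine ha hb (LThreeBX.NoSeven.comm_of_mk (by decide : Odd 13) ha5 hc.symm).symm
  have hbig : ∀ (p B : ℕ) (y : Co1), p.Prime → p ≠ 3 → orderOf y = p → B < p * 9 →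
      H55.CoOneBd.OddLe (Nat.card (centralizer ({y} : Set Co1))) B → p ≠ 2 → g ^ m * y = y * g ^ m → False := by
    rintro p B y hp hp3 hy hB ⟨k, hk0, hkB, hk⟩ hp2 hc
    have h3 : 9 ∣ Nat.card (centralizer ({y} : Set Co1)) := by
      rw [← hx, ← orderOf_mk (g ^ m) (mem_centralizer_singleton_iff.2 hc : g ^ m ∈ centralizer ({y} : Set Co1))]
      exact orderOf_dvd_natCard _
    have h4 : p ∣ Nat.card (centralizer ({y} : Set Co1)) := by
      rw [← hy, ← orderOf_mk y (mem_centralizer_singleton_iff.2 rfl : y ∈ centralizer ({y} : Set Co1))]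
      exact orderOf_dvd_natCard _
    have hcop : Nat.Coprime p 9 := by
      rw [show (9 : ℕ) = 3 ^ 2 by norm_num]
      exact Nat.Coprime.pow_right 2 ((Nat.coprime_primes hp Nat.prime_three).2 hp3)
    have h5 : p * 9 ∣ 2 ^ 22 * k := (hcop.mul_dvd_of_dvd_of_dvd h4 h3).trans hk
    have h6 : Nat.Coprime (p * 9) (2 ^ 22) := by
      refine Nat.Coprime.pow_right 22 (Nat.Coprime.mul_left ?_ (by norm_num))
      exact (Nat.coprime_primes hp Nat.prime_two).2 hp2
    have h7 := Nat.le_of_dvd (Nat.pos_of_ne_zero hk0) (h6.dvd_of_dvd_mul_left h5)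
    omega
  have hp11 := hprime 11 (by norm_num) fun y hy hc => hbig 11 33 y (by norm_num) (by norm_num) hy (by norm_num)
    (H55.CoOneBd.bd_eleven hy) (by norm_num) hc
  have hp23 := hprime 23 (by norm_num) fun y hy hc => hbig 23 46 y (by norm_num) (by norm_num) hy (by norm_num)
    (H55.CoOneBd.bd_23 hy) (by norm_num) hc
  have hd : Nat.card (centralizer ({g} : Set Co1)) ∣ 4157776806543360000 := by
    rw [← card_co1]; exact Subgroup.card_subgroup_dvd_card _
  have h1 := H813.CoSevenCard.reduce (p := 2) (by norm_num) 21 0 h0 (M := 3 ^ 9 * (5 ^ 4 * (7 ^ 2 * (11 * (13 * 23)))))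
    (hd.trans (by norm_num)) (by rw [zero_add, pow_one]; exact h2)
  have h3 := H813.CoSevenCard.reduce (p := 5) (by norm_num) 4 0 h0 (M := 3 ^ 9 * (7 ^ 2 * (11 * (13 * 23))))
    (h1.trans (by norm_num)) (by rw [zero_add, pow_one]; exact hp5)
  have h4 := H813.CoSevenCard.reduce (p := 7) (by norm_num) 2 0 h0 (M := 3 ^ 9 * (11 * (13 * 23)))
    (h3.trans (by norm_num)) (by rw [zero_add, pow_one]; exact hp7)
  have h5 := H813.CoSevenCard.reduce (p := 11) (by norm_num) 1 0 h0 (M := 3 ^ 9 * (13 * 23))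
    (h4.trans (by norm_num)) (by rw [zero_add, pow_one]; exact hp11)
  have h6 := H813.CoSevenCard.reduce (p := 13) (by norm_num) 1 0 h0 (M := 3 ^ 9 * 23)
    (h5.trans (by norm_num)) (by rw [zero_add, pow_one]; exact hp13)
  have h7 := H813.CoSevenCard.reduce (p := 23) (by norm_num) 1 0 h0 (M := 3 ^ 9)
    (h6.trans (by norm_num)) (by rw [zero_add, pow_one]; exact hp23)
  obtain ⟨k, -, hk⟩ := (Nat.dvd_prime_pow Nat.prime_three).1 (h7.trans (by norm_num : _ ∣ 3 ^ 9))
  exact IsPGroup.of_card hk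

end Cfsg.Agent.H868.QS
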