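import Cfsg.Agent.H868.QS.CoZL
import Cfsg.Agent.H868.QS.CoTr
import Cfsg.Agent.H630.Ore.Co1.Tr

/-!
# `2.Co₁`: the trace of the elements with a power `w` (helper868, S2491 / S2492)

`tr_w` : if `w ∈ ⟨mk x⟩` then `x ^ (1 + 2 j) = -x` for some `j`, `1 + 2 j` prime to the order `4 j`: `tr8 x = 0`.
-/

set_option autoImplicit false

open Subgroup

namespace Cfsg.Agent.H868.QS

open Cfsg Cfsg.Agent.SporadicA Cfsg.Agent.SporadicA.Co0Mono
open Cfsg.Agent.SporadicA.Co1Simple (allOne)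
open Cfsg.Agent.KFacts.Co1D4 Cfsg.Agent.CoOneType
open Cfsg.Agent.CoOneType.ClosingFacts (mk mk_mul mk_inv exists_mk mk_eq_one mk_eq)
open Cfsg.Agent.Co2Type.Mono (tr8)
open Cfsg.Agent.Characters.SchurBound (value_pow)
open Cfsg.Spor (Co1)

theorem tr8_mul_n (g : Co0) : tr8 (g * n) = - tr8 g := by
  have h := H630.Ore.Co1.Tr.tr8_neg g
  rwa [TwoB.negCo0_eq] at h

/-- **the trace is zero** -/
theorem tr_w {x : Co0} (h : TwoB.w ∈ zpowers (mk x)) : tr8 x = 0 := by
  obtain ⟨j, hj⟩ := exists_nat_pow h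
  have hj0 : j ≠ 0 := by
    rintro rfl
    rw [pow_zero] at hj
    exact TwoB.w_ne hj.symm
  have h1 : x ^ j * x ^ j = n := by
    have h2 : mk (x ^ j) = mk TwoB.k := by rw [mk_pow, hj]
    rcases (mk_eq _ _).1 h2 with h3 | h3
    · rw [h3, kk]
    · rw [h3]
      calc TwoB.k * n * (TwoB.k * n) = TwoB.k * (n * TwoB.k) * n := by group
        _ = TwoB.k * (TwoB.k * n) * n := by rw [← n_comm]
        _ = (TwoB.k * TwoB.k) * (n * n) := by group
        _ = n := by rw [kk, nn, mul_one]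
  have h4 : x ^ (2 * j) = n := by rw [two_mul, pow_add, h1]
  have h5 : x ^ (4 * j) = 1 := by
    rw [show 4 * j = 2 * j + 2 * j by ring, pow_add, h4, nn]
  obtain ⟨q, hq⟩ := rat_nuC x
  have hco : (1 + 2 * j).Coprime (4 * j) := by
    refine Nat.Coprime.symm (Nat.Coprime.mul_left ?_ ?_)
    · have h6 : Nat.Coprime 2 (1 + 2 * j) := (Nat.coprime_two_left).2 ⟨j, by ring⟩
      exact Nat.Coprime.pow_left 2 h6
    · rw [add_comm, Nat.coprime_mul_right_add_right]
      exact Nat.coprime_one_right j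
  have h6 := value_pow isCharacter_nuC x hq (N := 4 * j) (by omega) h5 hco
  rw [pow_add, pow_one, h4] at h6
  unfold nuC at h6
  rw [tr8_mul_n] at h6
  have h7 : ((-tr8 x : ℤ) : ℂ) = ((tr8 x : ℤ) : ℂ) := by
    have h8 : (8 : ℂ) ≠ 0 := by norm_num
    exact (div_left_inj' h8).1 h6
  have h8 : -tr8 x = tr8 x := by exact_mod_cast h7
  omega

end Cfsg.Agent.H868.QS
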