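import Cfsg.Agent.KFacts.Co1D4.Main
import Cfsg.Agent.H538.Ore.Small
import Cfsg.Agent.H777.Ore.Base

/-!
# `2.Co₁`: the elements over `Z × G₂(4)` (helper868, S2491 / S2492, piece E8d)

The lifts of the letters of `L = G₂(4)` commute with `k`, `u` (a quaternion group over `Z = {1, w, v, wv}`) and with a
lift of `r`, of order three modulo `Z`.  Hence every element of `Co₀` over `b l`, `b ∈ Z`, `l ∈ L`, is a commutator
(`isC_ZL`), and so is `-1` (`isC_neg`).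
-/

set_option autoImplicit false

open Subgroup

namespace Cfsg.Agent.H868.QS

open Cfsg Cfsg.Agent.SporadicA Cfsg.Agent.SporadicA.Co0Mono
open Cfsg.Agent.SporadicA.Co1Simple (allOne)
open Cfsg.Agent.KFacts.Co1D4 Cfsg.Agent.CoOneType
open Cfsg.Agent.CoOneType.ClosingFacts (mk mk_mul mk_inv exists_mk mk_eq_one mk_eq)
open Cfsg.Agent.H777.Ore
open Cfsg.Spor (Co1)

/-- `-1` -/
noncomputable abbrev n : Co0 := signCo0 allOne

theorem nn : n * n = 1 := signCo0_mul_self _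
theorem n_comm : ∀ g : Co0, g * n = n * g := SignFacts.sign_allOne_comm
theorem mk_n : mk n = 1 := TwoB.mk_allOne

/-- the lifts of the letters -/
noncomputable def Γ : Subgroup Co0 := closure (Set.range fun i : Fin 6 => Letters.e i.val)

theorem Γ_comm {g : Co0} (h : ∀ i : Fin 6, Letters.e i.val * g = g * Letters.e i.val) : ∀ γ ∈ Γ, γ * g = g * γ := by
  have h1 : Γ ≤ centralizer ({g} : Set Co0) := by
    unfold Γ
    rw [closure_le]
    rintro _ ⟨i, rfl⟩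
    exact mem_centralizer_singleton_iff.mpr (h i)
  exact fun l hl => mem_centralizer_singleton_iff.mp (h1 hl)

theorem Γk : ∀ γ ∈ Γ, γ * TwoB.k = TwoB.k * γ := Γ_comm fun i => (Letters.e_comm i).1
theorem Γu : ∀ γ ∈ Γ, γ * TwoB.u = TwoB.u * γ := Γ_comm fun i => (Letters.e_comm i).2.1
theorem Γr : ∀ γ ∈ Γ, γ * Letters.e 13 = Letters.e 13 * γ := Γ_comm fun i => (Letters.e_comm i).2.2

/-- the elements of `L` lift to `Γ` -/
theorem exists_Γ {l : Co1} (hl : l ∈ GTwo.L) : ∃ γ ∈ Γ, mk γ = l := by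
  have h1 : Γ.map (QuotientGroup.mk' (center Co0)) = GTwo.L := by
    unfold Γ GTwo.L
    rw [MonoidHom.map_closure, ← Set.range_comp]
    rfl
  rw [← h1] at hl
  obtain ⟨γ, hγ, rfl⟩ := hl
  exact ⟨γ, hγ, rfl⟩

/-- the group `⟨k, u, r⟩` -/
noncomputable def S3 : Subgroup Co0 := closure {TwoB.k, TwoB.u, Letters.e 13}

theorem k_mem : TwoB.k ∈ S3 := subset_closure (by simp)
theorem u_mem : TwoB.u ∈ S3 := subset_closure (by simp)
theorem r_mem : Letters.e 13 ∈ S3 := subset_closure (by simp)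

theorem S3_comm : ∀ s ∈ S3, ∀ γ ∈ Γ, γ * s = s * γ := by
  intro s hs γ hγ
  have h1 : S3 ≤ centralizer ({γ} : Set Co0) := by
    unfold S3
    rw [closure_le]
    rintro x (rfl | rfl | rfl)
    · exact mem_centralizer_singleton_iff.mpr (Γk γ hγ).symm
    · exact mem_centralizer_singleton_iff.mpr (Γu γ hγ).symm
    · exact mem_centralizer_singleton_iff.mpr (Γr γ hγ).symm
  exact (mem_centralizer_singleton_iff.mp (h1 hs)).symm

/-- a commutator of elements of `S3` -/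
def CS (q : Co0) : Prop := ∃ a ∈ S3, ∃ b ∈ S3, q = a * b * a⁻¹ * b⁻¹

theorem kk : TwoB.k * TwoB.k = n := TwoB.k_sq
theorem uu : TwoB.u * TwoB.u = n := TwoB.u_sq
theorem ku : TwoB.k * TwoB.u = n * (TwoB.u * TwoB.k) := TwoB.ku

theorem cs_one : CS 1 := ⟨1, one_mem _, 1, one_mem _, by simp⟩

theorem cs_neg : CS n := ⟨TwoB.k, k_mem, TwoB.u, u_mem, by rw [ku]; group⟩

/-- a commutator over which both lifts are reached -/
theorem cs_both {a b c q : Co0} (ha : a ∈ S3) (hb : b ∈ S3) (hc : c ∈ S3) (hcb : c * b = n * (b * c))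
    (h : mk q = mk a * mk b * (mk a)⁻¹ * (mk b)⁻¹) : CS q := by
  have h1 : mk q = mk (a * b * a⁻¹ * b⁻¹) := by rw [h]; rfl
  rcases (mk_eq _ _).1 h1 with h2 | h2
  · exact ⟨a, ha, b, hb, h2⟩
  · refine ⟨a * c, mul_mem ha hc, b, hb, ?_⟩
    rw [h2]
    calc a * b * a⁻¹ * b⁻¹ * n = n * (a * b * a⁻¹ * b⁻¹) := by rw [← n_comm]
      _ = (n * a) * b * a⁻¹ * b⁻¹ := by group
      _ = (a * n) * b * a⁻¹ * b⁻¹ := by rw [n_comm]
      _ = a * (n * (b * c)) * c⁻¹ * a⁻¹ * b⁻¹ := by group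
      _ = a * (c * b) * c⁻¹ * a⁻¹ * b⁻¹ := by rw [hcb]
      _ = a * c * b * (a * c)⁻¹ * b⁻¹ := by group

theorem uk : TwoB.u * TwoB.k = n * (TwoB.k * TwoB.u) := by
  rw [ku, ← mul_assoc, nn, one_mul]

theorem rw_ : TwoB.r * TwoB.w * TwoB.r⁻¹ = TwoB.v := TwoB.rw_
theorem rv : TwoB.r * TwoB.v * TwoB.r⁻¹ = TwoB.w * TwoB.v := TwoB.rv

theorem cs_w {q : Co0} (h : mk q = TwoB.w) : CS q := by
  refine cs_both r_mem u_mem k_mem ku ?_
  show mk q = TwoB.r * TwoB.v * TwoB.r⁻¹ * TwoB.v⁻¹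
  rw [rv, h]; group

theorem cs_v {q : Co0} (h : mk q = TwoB.v) : CS q := by
  refine cs_both r_mem (mul_mem k_mem u_mem) k_mem ?_ ?_
  · calc TwoB.k * (TwoB.k * TwoB.u) = TwoB.k * (n * (TwoB.u * TwoB.k)) := by rw [ku]
      _ = (TwoB.k * n) * (TwoB.u * TwoB.k) := by group
      _ = (n * TwoB.k) * (TwoB.u * TwoB.k) := by rw [n_comm]
      _ = n * (TwoB.k * TwoB.u * TwoB.k) := by group
  · show mk q = TwoB.r * (TwoB.w * TwoB.v) * TwoB.r⁻¹ * (TwoB.w * TwoB.v)⁻¹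
    rw [h, show TwoB.r * (TwoB.w * TwoB.v) * TwoB.r⁻¹ = (TwoB.r * TwoB.w * TwoB.r⁻¹) * (TwoB.r * TwoB.v * TwoB.r⁻¹) by group,
      rw_, rv]
    group

theorem cs_wv {q : Co0} (h : mk q = TwoB.w * TwoB.v) : CS q := by
  refine cs_both r_mem k_mem u_mem uk ?_
  show mk q = TwoB.r * TwoB.w * TwoB.r⁻¹ * TwoB.w⁻¹
  have hw : TwoB.w⁻¹ = TwoB.w := inv_eq_of_mul_eq_one_left TwoB.ww
  rw [rw_, h, TwoB.wv, hw]

theorem cs {q : Co0} (h : mk q = 1 ∨ mk q = TwoB.w ∨ mk q = TwoB.v ∨ mk q = TwoB.w * TwoB.v) : CS q := by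
  rcases h with h | h | h | h
  · rcases (mk_eq_one _).1 h with rfl | rfl
    · exact cs_one
    · exact cs_neg
  · exact cs_w h
  · exact cs_v h
  · exact cs_wv h

theorem allC_L : AllC GTwo.L := by
  have : Fintype (GaloisField 2 2) := Fintype.ofFinite _
  have h4 : Fintype.card (GaloisField 2 2) = 4 := by
    rw [← Nat.card_eq_fintype_card, GaloisField.card 2 2 (by norm_num)]; norm_num
  obtain ⟨e⟩ := StdG24.Iso6.equiv_chev (GaloisField 2 2) h4
  have h : AllC StdG24.Mod6.L := H538.Ore.ore_g2 ⟨GaloisField 2 2, inferInstance, inferInstance, by rw [h4]; norm_num, ⟨e⟩⟩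
  exact AllC.congr GTwo.φ h

/-- **the lifts of the elements of `Z × L`** -/
theorem isC_ZL {x : Co0} {b l : Co1} (hb : b = 1 ∨ b = TwoB.w ∨ b = TwoB.v ∨ b = TwoB.w * TwoB.v) (hl : l ∈ GTwo.L)
    (h : mk x = b * l) : IsC x := by
  obtain ⟨c, d, hcd⟩ := allC_L ⟨l, hl⟩
  obtain ⟨γ, hγ, hc⟩ := exists_Γ c.2
  obtain ⟨δ, hδ, hd⟩ := exists_Γ d.2
  have hl' : l = mk (γ * δ * γ⁻¹ * δ⁻¹) := by
    have h1 := congrArg (fun y : GTwo.L => (y : Co1)) hcd
    show l = mk γ * mk δ * (mk γ)⁻¹ * (mk δ)⁻¹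
    rw [hc, hd]
    exact h1
  set y : Co0 := γ * δ * γ⁻¹ * δ⁻¹ with hy
  have hq : mk (x * y⁻¹) = b := by
    rw [mk_mul, mk_inv, ← hl', h, mul_inv_cancel_right]
  obtain ⟨α, hα, β, hβ, hq'⟩ := cs (q := x * y⁻¹) (by rw [hq]; exact hb)
  have h2 := isC_mul_of_commute hq' hy (S3_comm α hα γ hγ).symm (S3_comm α hα δ hδ).symm (S3_comm β hβ γ hγ).symm
    (S3_comm β hβ δ hδ).symm
  rwa [inv_mul_cancel_right] at h2

/-- both lifts of an element of odd order which commutes with `w` -/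
theorem isC_of_mem_L {x : Co0} (h : mk x ∈ GTwo.L) : IsC x := isC_ZL (b := 1) (Or.inl rfl) h (one_mul _).symm

theorem isC_neg : IsC n := isC_of_mem_L (by rw [mk_n]; exact one_mem _)

end Cfsg.Agent.H868.QS
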